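import Mathlib.FieldTheory.RatFunc.Degree
import Mathlib.RingTheory.LaurentSeries
import Mathlib.RingTheory.PowerSeries.Expand
import Mathlib.RingTheory.IntegralClosure.IntegrallyClosed
import Mathlib.Algebra.CharP.Two
import Mathlib.Algebra.Field.ZMod
import Mathlib.Topology.Algebra.Valued.NormedValued

/-!
# Squares in `F_2(s)` and in `F_2(s)((t))`
-/

set_option autoImplicit false

namespace K373.RefN1

open WithZero

/-- `F_2(s)` -/
abbrev F : Type := RatFunc (ZMod 2)

/-- `F_2(s)((t))` -/
abbrev L : Type := LaurentSeries F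

instance charP_poly : CharP (Polynomial (ZMod 2)) 2 := inferInstance

instance charP_F : CharP F 2 :=
  charP_of_injective_algebraMap (IsFractionRing.injective (Polynomial (ZMod 2)) F) 2

instance charP_PS : CharP (PowerSeries F) 2 :=
  charP_of_injective_ringHom (f := PowerSeries.C (R := F)) PowerSeries.C_injective 2

instance charP_L : CharP L 2 :=
  charP_of_injective_algebraMap (IsFractionRing.injective (PowerSeries F) L) 2

theorem poly_sq (P : Polynomial (ZMod 2)) : ∃ A B : Polynomial (ZMod 2), P = A ^ 2 + Polynomial.X * B ^ 2 := by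
  have h2 : ∀ a : ZMod 2, a ^ 2 = a := by decide
  induction P using Polynomial.induction_on' with
  | add P Q hP hQ =>
    obtain ⟨A, B, rfl⟩ := hP
    obtain ⟨A', B', rfl⟩ := hQ
    refine ⟨A + A', B + B', ?_⟩
    rw [CharTwo.add_sq, CharTwo.add_sq]
    ring
  | monomial n a =>
    obtain ⟨m, rfl | rfl⟩ := Nat.even_or_odd' n
    · refine ⟨Polynomial.monomial m a, 0, ?_⟩
      rw [Polynomial.monomial_pow, h2, mul_comm m 2]
      ring
    · refine ⟨0, Polynomial.monomial m a, ?_⟩
      rw [Polynomial.monomial_pow, h2, mul_comm m 2, Polynomial.X_mul_monomial]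
      ring

theorem F_sq (x : F) : ∃ a b : F, x = a ^ 2 + RatFunc.X * b ^ 2 := by
  obtain ⟨p, q, hq, rfl⟩ := IsFractionRing.div_surjective (A := Polynomial (ZMod 2)) x
  obtain ⟨A, B, hAB⟩ := poly_sq (p * q)
  have hq0 : algebraMap (Polynomial (ZMod 2)) F q ≠ 0 :=
    IsFractionRing.to_map_ne_zero_of_mem_nonZeroDivisors hq
  have h := congrArg (algebraMap (Polynomial (ZMod 2)) F) hAB
  simp only [map_mul, map_add, map_pow, RatFunc.algebraMap_X] at h
  refine ⟨algebraMap _ F A / algebraMap _ F q, algebraMap _ F B / algebraMap _ F q, ?_⟩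
  field_simp
  linear_combination h

theorem X_not_sq (a : F) : a ^ 2 ≠ RatFunc.X := by
  intro h
  have ha : a ≠ 0 := by
    rintro rfl
    rw [zero_pow two_ne_zero] at h
    exact RatFunc.X_ne_zero h.symm
  have h1 := congrArg RatFunc.intDegree h
  rw [pow_two, RatFunc.intDegree_mul ha ha, RatFunc.intDegree_X] at h1
  omega

theorem F_no_root (a : F) : a ^ 2 + a + 1 ≠ 0 := by
  intro h
  have hint : IsIntegral (Polynomial (ZMod 2)) a := by
    refine ⟨Polynomial.X ^ 2 + Polynomial.X + 1, by monicity!, ?_⟩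
    simpa using h
  obtain ⟨P, hP⟩ := IsIntegrallyClosed.isIntegral_iff.1 hint
  have h1 : P ^ 2 + P + 1 = 0 := by
    apply IsFractionRing.injective (Polynomial (ZMod 2)) F
    rw [map_add, map_add, map_pow, hP, map_one, map_zero]
    exact h
  have h2 := congrArg (Polynomial.eval 0) h1
  simp only [Polynomial.eval_add, Polynomial.eval_pow, Polynomial.eval_one, Polynomial.eval_zero] at h2
  revert h2
  generalize Polynomial.eval 0 P = c
  revert c
  decide

theorem coeff_sq (f : PowerSeries F) (n : ℕ) :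
    PowerSeries.coeff n (f ^ 2) = if 2 ∣ n then (PowerSeries.coeff (n / 2) f) ^ 2 else 0 := by
  have h : f ^ 2 = PowerSeries.map (frobenius F 2) (PowerSeries.expand 2 two_ne_zero f) :=
    (MvPowerSeries.map_frobenius_expand 2 two_ne_zero (f := f)).symm
  rw [h, PowerSeries.coeff_map, PowerSeries.coeff_expand]
  split_ifs with h2
  · rfl
  · rw [map_zero]

theorem PS_sq (f : PowerSeries F) : ∃ a b c d : PowerSeries F, f = a ^ 2 + PowerSeries.C RatFunc.X * b ^ 2 +
    PowerSeries.X * c ^ 2 + PowerSeries.C RatFunc.X * PowerSeries.X * d ^ 2 := by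
  choose A B hAB using fun n => F_sq (PowerSeries.coeff n f)
  refine ⟨PowerSeries.mk fun n => A (2 * n), PowerSeries.mk fun n => B (2 * n),
    PowerSeries.mk fun n => A (2 * n + 1), PowerSeries.mk fun n => B (2 * n + 1), ?_⟩
  ext n
  rw [mul_assoc (PowerSeries.C RatFunc.X)]
  simp only [map_add, PowerSeries.coeff_C_mul]
  rcases n with _ | n
  · rw [PowerSeries.coeff_zero_X_mul, PowerSeries.coeff_zero_X_mul, coeff_sq, coeff_sq]
    simp only [dvd_zero, if_true, Nat.zero_div, PowerSeries.coeff_mk, mul_zero, add_zero]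
    exact hAB 0
  · rw [PowerSeries.coeff_succ_X_mul, PowerSeries.coeff_succ_X_mul, coeff_sq, coeff_sq, coeff_sq, coeff_sq]
    obtain ⟨m, hm | hm⟩ := Nat.even_or_odd' n
    · have h1 : ¬ 2 ∣ n + 1 := by omega
      have h2 : 2 ∣ n := by omega
      have h3 : 2 * (n / 2) + 1 = n + 1 := by omega
      simp only [if_neg h1, if_pos h2, PowerSeries.coeff_mk, mul_zero, zero_add, h3]
      exact hAB (n + 1)
    · have h1 : 2 ∣ n + 1 := by omega
      have h2 : ¬ 2 ∣ n := by omega
      have h3 : 2 * ((n + 1) / 2) = n + 1 := by omega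
      simp only [if_pos h1, if_neg h2, PowerSeries.coeff_mk, mul_zero, add_zero, h3]
      exact hAB (n + 1)

/-- the element `s` of `F_2(s)((t))` -/
noncomputable def sL : L := HahnSeries.C (RatFunc.X : F)

/-- the element `t` of `F_2(s)((t))` -/
noncomputable def tL : L := HahnSeries.single 1 1

theorem sL_eq : sL = algebraMap (PowerSeries F) L (PowerSeries.C RatFunc.X) := by
  rw [LaurentSeries.coe_algebraMap, PowerSeries.coe_C]
  rfl

theorem tL_eq : tL = algebraMap (PowerSeries F) L PowerSeries.X := by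
  rw [LaurentSeries.coe_algebraMap, PowerSeries.coe_X]
  rfl

theorem L_sq (x : L) : ∃ a b c d : L, x = a ^ 2 + sL * b ^ 2 + tL * c ^ 2 + sL * tL * d ^ 2 := by
  obtain ⟨p, q, hq, rfl⟩ := IsFractionRing.div_surjective (A := PowerSeries F) x
  obtain ⟨a, b, c, d, h⟩ := PS_sq (p * q)
  have hq0 : algebraMap (PowerSeries F) L q ≠ 0 :=
    IsFractionRing.to_map_ne_zero_of_mem_nonZeroDivisors hq
  have h := congrArg (algebraMap (PowerSeries F) L) h
  simp only [map_mul, map_add, map_pow, ← sL_eq, ← tL_eq] at h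
  refine ⟨algebraMap _ L a / algebraMap _ L q, algebraMap _ L b / algebraMap _ L q,
    algebraMap _ L c / algebraMap _ L q, algebraMap _ L d / algebraMap _ L q, ?_⟩
  field_simp
  linear_combination h

end K373.RefN1
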