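import Groth.Agent.EtAlg.K405.Ctx
import Groth.Agent.EtAlg.K373.RefN1a
import Mathlib.Analysis.Normed.Unbundled.SpectralNorm
import Mathlib.FieldTheory.IsAlgClosed.AlgebraicClosure
import Mathlib.Data.Int.WithZero

/-!
# The context for the refutation of S7162 exists (node N1)

`Ω` = algebraic closure of `F_2(s)((t))` with the spectral norm.
-/

set_option autoImplicit false

namespace K373.RefN1

open WithZero Polynomial Groth.Agent.Etalg.EppFrame Groth.Agent.EtAlg.K405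

/-- the rank one structure of the `t`-adic valuation of `F_2(s)((t))` -/
@[instance_reducible]
noncomputable def rankOne : Valuation.RankOne (Valued.v : Valuation L ℤᵐ⁰) where
  hom' := (WithZeroMulInt.toNNReal (e := 2) two_ne_zero).comp MonoidWithZeroHom.ValueGroup₀.embedding
  strictMono' := (WithZeroMulInt.toNNReal_strictMono (e := 2) one_lt_two).comp
    MonoidWithZeroHom.ValueGroup₀.embedding_strictMono
  exists_val_nontrivial := by
    refine ⟨tL, ?_, ?_⟩
    · rw [tL, LaurentSeries.valuation_single_zpow]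
      exact exp_ne_zero
    · rw [tL, LaurentSeries.valuation_single_zpow]
      intro h
      have h1 := congrArg log h
      rw [log_exp, log_one] at h1
      omega

/-- `F_2(s)((t))` as a complete ultrametric normed field -/
theorem exists_C : ∃ (C : Type) (_ : NontriviallyNormedField C) (_ : CompleteSpace C) (_ : IsUltrametricDist C)
    (j : L ≃+* C), (∀ x y : L, ‖j x‖ ≤ ‖j y‖ ↔ Valued.v x ≤ Valued.v y) := by
  let _ := rankOne
  let i1 : NontriviallyNormedField L := Valued.toNontriviallyNormedField L ℤᵐ⁰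
  refine ⟨L, i1, ?_, ?_, RingEquiv.refl L, ?_⟩
  · exact (inferInstance : CompleteSpace L)
  · exact inferInstance
  · intro x y
    exact Valued.toNormedField.norm_le_iff

theorem v_C_le (a : F) : Valued.v (HahnSeries.C a : L) ≤ 1 := by
  rw [LaurentSeries.val_le_one_iff_eq_coe]
  exact ⟨PowerSeries.C a, PowerSeries.coe_C a⟩

theorem v_C (a : F) (ha : a ≠ 0) : Valued.v (HahnSeries.C a : L) = 1 := by
  apply le_antisymm (v_C_le a)
  have h := v_C_le a⁻¹
  have h1 : Valued.v (HahnSeries.C a : L) * Valued.v (HahnSeries.C a⁻¹ : L) = 1 := by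
    rw [← map_mul, ← map_mul, mul_inv_cancel₀ ha, map_one, map_one]
  calc (1 : ℤᵐ⁰) = Valued.v (HahnSeries.C a : L) * Valued.v (HahnSeries.C a⁻¹ : L) := h1.symm
    _ ≤ Valued.v (HahnSeries.C a : L) * 1 := by gcongr
    _ = _ := mul_one _

theorem tL_ne_zero : tL ≠ 0 := by
  rw [tL]
  exact HahnSeries.single_ne_zero one_ne_zero

theorem v_zpow (x : L) (hx : x ≠ 0) : ∃ n : ℤ, Valued.v x = Valued.v (tL ^ n) := by
  have h0 : Valued.v x ≠ 0 := (Valuation.ne_zero_iff _).2 hx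
  refine ⟨-log (Valued.v x), ?_⟩
  rw [map_zpow₀, tL, LaurentSeries.valuation_single_zpow, ← exp_zsmul, smul_eq_mul, mul_neg_one, neg_neg,
    exp_log h0]

theorem res_L (x : L) (hx : Valued.v x ≤ 1) : ∃ a : F, Valued.v (x - HahnSeries.C a) ≤ Valued.v tL := by
  obtain ⟨f, rfl⟩ := (LaurentSeries.val_le_one_iff_eq_coe F x).1 hx
  refine ⟨PowerSeries.constantCoeff f, ?_⟩
  obtain ⟨g, hg⟩ : PowerSeries.X ∣ f - PowerSeries.C (PowerSeries.constantCoeff f) := by
    rw [PowerSeries.X_dvd_iff, map_sub, PowerSeries.constantCoeff_C, sub_self]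
  have h1 : ((f : L) - HahnSeries.C (PowerSeries.constantCoeff f)) = tL * (g : L) := by
    rw [← PowerSeries.coe_C, ← PowerSeries.coe_sub, hg, PowerSeries.coe_mul, PowerSeries.coe_X, tL]
  rw [h1, map_mul]
  have h2 : Valued.v (g : L) ≤ 1 := (LaurentSeries.val_le_one_iff_eq_coe F _).2 ⟨g, rfl⟩
  calc Valued.v tL * Valued.v (g : L) ≤ Valued.v tL * 1 := by gcongr
    _ = _ := mul_one _

theorem v_t_lt : Valued.v tL < 1 := by
  rw [tL, LaurentSeries.valuation_single_zpow, ← exp_zero, exp_lt_exp]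
  norm_num

theorem L_no_root (x : L) : x ^ 2 + x + 1 ≠ 0 := by
  intro h
  have hint : IsIntegral (PowerSeries F) x := by
    refine ⟨Polynomial.X ^ 2 + Polynomial.X + 1, by monicity!, ?_⟩
    simpa using h
  obtain ⟨f, hf⟩ := IsIntegrallyClosed.isIntegral_iff.1 hint
  have h1 : f ^ 2 + f + 1 = 0 := by
    apply IsFractionRing.injective (PowerSeries F) L
    rw [map_add, map_add, map_pow, hf, map_one, map_zero]
    exact h
  have h2 := congrArg PowerSeries.constantCoeff h1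
  rw [map_add, map_add, map_pow, map_one, map_zero] at h2
  exact F_no_root _ h2

/-- `F_2(s)((t))` as a complete ultrametric normed field, all the facts needed about its norm -/
theorem exists_C' : ∃ (C : Type) (_ : NontriviallyNormedField C) (_ : CompleteSpace C) (_ : IsUltrametricDist C)
    (j : L ≃+* C), 0 < ‖j tL‖ ∧ ‖j tL‖ < 1 ∧ (∀ x : L, x ≠ 0 → ∃ n : ℤ, ‖j x‖ = ‖j tL‖ ^ n) ∧
      (∀ a : F, a ≠ 0 → ‖j (HahnSeries.C a)‖ = 1) ∧
      (∀ x : L, ‖j x‖ ≤ 1 → ∃ a : F, ‖j x - j (HahnSeries.C a)‖ < 1) := by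
  obtain ⟨C, i1, i2, i3, j, hj⟩ := exists_C
  have heq : ∀ x y : L, Valued.v x = Valued.v y → ‖j x‖ = ‖j y‖ := fun x y h =>
    le_antisymm ((hj x y).2 h.le) ((hj y x).2 h.ge)
  have h1 : ∀ x : L, ‖j x‖ ≤ 1 ↔ Valued.v x ≤ 1 := fun x => by
    have := hj x 1
    rwa [map_one, norm_one, map_one] at this
  have h2 : ∀ x : L, 1 ≤ ‖j x‖ ↔ 1 ≤ Valued.v x := fun x => by
    have := hj 1 x
    rwa [map_one, norm_one, map_one] at this
  have ht : ‖j tL‖ < 1 := by
    rw [← not_le, h2, not_le]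
    exact v_t_lt
  refine ⟨C, i1, i2, i3, j, ?_, ht, ?_, ?_, ?_⟩
  · rw [norm_pos_iff]
    exact (map_ne_zero j).2 tL_ne_zero
  · intro x hx
    obtain ⟨n, hn⟩ := v_zpow x hx
    refine ⟨n, ?_⟩
    rw [heq _ _ hn, map_zpow₀, norm_zpow]
  · intro a ha
    have h3 : Valued.v (HahnSeries.C a : L) = Valued.v (1 : L) := by rw [v_C a ha, map_one]
    rw [heq _ _ h3, map_one, norm_one]
  · intro x hx
    obtain ⟨a, ha⟩ := res_L x ((h1 x).1 hx)
    refine ⟨a, ?_⟩
    rw [← map_sub]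
    exact ((hj _ _).2 ha).trans_lt ht

theorem N1_ctx : ∃ (Ω : Type) (_ : NormedField Ω) (_ : IsUltrametricDist Ω) (_ : IsAlgClosed Ω) (_ : CharP Ω 2),
    Nonempty (Ctx Ω) := by
  obtain ⟨E, i1, i2, i3, j, ht0, ht1, hz, hC, hres⟩ := exists_C'
  let Ω := AlgebraicClosure E
  let _ : NormedField Ω := spectralNorm.normedField E Ω
  let _ : NormedAlgebra E Ω := spectralNorm.normedAlgebra E Ω
  have hΩu : IsUltrametricDist Ω := IsUltrametricDist.of_normedAlgebra E
  have hΩc : IsAlgClosed Ω := AlgebraicClosure.isAlgClosed E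
  have hn : ∀ x : E, ‖algebraMap E Ω x‖ = ‖x‖ := fun x => norm_algebraMap' Ω x
  let φ : L →+* Ω := (algebraMap E Ω).comp (j : L →+* E)
  have hφn : ∀ x : L, ‖φ x‖ = ‖j x‖ := fun x => hn (j x)
  have hφi : Function.Injective φ := φ.injective
  have hchar : CharP Ω 2 := charP_of_injective_ringHom hφi 2
  have hKC : ∀ x : E, algebraMap E Ω x ∈ φ.fieldRange := fun x => ⟨j.symm x, by
    change algebraMap E Ω (j (j.symm x)) = _
    rw [j.apply_symm_apply]⟩
  obtain ⟨r, hr⟩ := IsAlgClosed.exists_root (X ^ 2 + X + 1 : Ω[X]) (by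
    have h : (X ^ 2 + X + 1 : Ω[X]).degree = 2 := by compute_degree!
    rw [h]; norm_num)
  obtain ⟨z, hz'⟩ := IsAlgClosed.exists_root (X ^ 2 + X - C (φ sL / φ tL ^ 2) : Ω[X]) (by
    have h : (X ^ 2 + X - C (φ sL / φ tL ^ 2) : Ω[X]).degree = 2 := by compute_degree!
    rw [h]; norm_num)
  have hr' : r ^ 2 + r + 1 = 0 := by simpa using hr
  refine ⟨Ω, inferInstance, hΩu, hΩc, hchar, ⟨{
    K := φ.fieldRange
    k0 := (φ.comp (HahnSeries.C : F →+* L)).fieldRange
    s := φ sL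
    t := φ tL
    r := r
    z := z
    k0_le := ?_
    s_mem := ⟨RatFunc.X, rfl⟩
    t_mem := ⟨tL, rfl⟩
    disc := ?_
    k0_norm := ?_
    res := ?_
    s_not_sq := ?_
    k0_sq := ?_
    K_sq := ?_
    alg := ?_
    inv := ?_
    r_eq := hr'
    r_not_mem := ?_
    z_eq := ?_ }⟩⟩
  · rintro _ ⟨a, rfl⟩
    exact ⟨HahnSeries.C a, rfl⟩
  · refine ⟨?_, ?_, ?_⟩
    · rw [hφn]; exact ht0
    · rw [hφn]; exact ht1
    · rintro _ ⟨x, rfl⟩ hx
      have hx0 : x ≠ 0 := by
        rintro rfl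
        exact hx (map_zero φ)
      rw [hφn, hφn]
      exact hz x hx0
  · rintro _ ⟨a, rfl⟩ ha
    have ha0 : a ≠ 0 := by
      rintro rfl
      exact ha (map_zero _)
    exact (hφn _).trans (hC a ha0)
  · rintro _ ⟨x, rfl⟩ hx
    rw [hφn] at hx
    obtain ⟨a, ha⟩ := hres x hx
    refine ⟨_, ⟨a, rfl⟩, ?_⟩
    have h : φ x - (φ.comp (HahnSeries.C : F →+* L)) a = φ (x - HahnSeries.C a) := (map_sub φ _ _).symm
    rw [h, hφn, map_sub]
    exact ha
  · rintro _ ⟨a, rfl⟩ h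
    rw [← map_pow, RingHom.comp_apply] at h
    exact X_not_sq a (HahnSeries.C_injective (hφi h))
  · rintro _ ⟨x, rfl⟩
    obtain ⟨a, b, rfl⟩ := F_sq x
    refine ⟨_, ⟨a, rfl⟩, _, ⟨b, rfl⟩, ?_⟩
    rw [map_add, map_mul, map_pow, map_pow]
    rfl
  · rintro _ ⟨x, rfl⟩
    obtain ⟨a, b, c, d, rfl⟩ := L_sq x
    refine ⟨_, ⟨a, rfl⟩, _, ⟨b, rfl⟩, _, ⟨c, rfl⟩, _, ⟨d, rfl⟩, ?_⟩
    simp only [map_add, map_mul, map_pow]
  · intro x
    have hx : IsAlgebraic E x := Algebra.IsAlgebraic.isAlgebraic x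
    exact hx.ringHom_of_comp_eq (S := φ.fieldRange) (B := Ω)
      ((algebraMap E Ω).codRestrict φ.fieldRange hKC) (RingHom.id Ω)
      (fun a b h => (algebraMap E Ω).injective (congrArg Subtype.val h)) rfl
  · intro σ x
    let σ' : Ω ≃ₐ[E] Ω := AlgEquiv.ofRingEquiv (f := (σ : Ω ≃+* Ω)) (fun c =>
      σ.commutes (⟨algebraMap E Ω c, hKC c⟩ : φ.fieldRange))
    exact (spectralNorm_eq_of_equiv σ' x).symm
  · rintro ⟨x, rfl⟩
    apply L_no_root x
    apply hφi
    rw [map_add, map_add, map_pow, map_one, map_zero]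
    exact hr'
  · have h : z ^ 2 + z - φ sL / φ tL ^ 2 = 0 := by simpa using hz'
    exact sub_eq_zero.1 h

end K373.RefN1
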